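import Cfsg.Agent.Lib.GeomClasses.SkewPairMax

/-!
The stabilizer of a pair of complementary totally isotropic subspaces of dimension at least three is maximal in the
symplectic group in odd characteristic (adapted from `GeomClasses.SkewPair`, which needs dimension five).
-/

set_option autoImplicit false
set_option linter.unusedSectionVars false
set_option linter.unusedSimpArgs false

namespace CfsgLib.SkewPairLow

open Matrix CfsgLib.GeomClasses
open CfsgLib.GeomClasses.SkewPair (IsSkewHerm root add_left add_right smul_left smul_right zero_left zero_right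
  neg_left neg_right eq_zero_comm ne_zero_comm conj_form formTv_mulVec root_mulVec root_mul root_zero root_inv
  root_swap root_isometry root_conj commutator_mem formTv_smul exists_perm)

variable {ι : Type} [Fintype ι] [DecidableEq ι] {F : Type*} [Field F] {σ : F ≃+* F} {f : (ι → F) → (ι → F) → F}

/-- The data of a pair of complementary totally isotropic subspaces. -/
structure Pair (σ : F ≃+* F) (f : (ι → F) → (ι → F) → F) (D : Fin 2 → Submodule F (ι → F)) (k : ℕ) : Prop
    extends IsSkewHerm σ f where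
  decomp : Cfsg.Geo.IsMDecomposition k D
  isotropic : ∀ i, ∀ x ∈ D i, ∀ y ∈ D i, f x y = 0
  three : 3 ≤ k
  refl : ∀ a, σ a = a
  two : (2 : F) ≠ 0

/-- A subgroup of isometries containing the root elements and swaps of the pair stabilizer. -/
structure Over (σ : F ≃+* F) (f : (ι → F) → (ι → F) → F) (D : Fin 2 → Submodule F (ι → F)) (k : ℕ)
    (M : Subgroup (GL ι F)) : Prop extends Pair σ f D k where
  isometry : ∀ g ∈ M, ∀ x y, f ((g : Matrix ι ι F) *ᵥ x) ((g : Matrix ι ι F) *ᵥ y) = f x y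
  root_mem : ∀ i j, i ≠ j → ∀ u ∈ D i, ∀ w ∈ D j, f u w = 0 → root f u w 0 ∈ M
  swap_mem : ∃ g ∈ M, ∀ x ∈ D 0, (g : Matrix ι ι F) *ᵥ x ∈ D 1

variable {D : Fin 2 → Submodule F (ι → F)} {k : ℕ} (P : Pair σ f D k)
include P

theorem Pair.components {i j : Fin 2} (hij : i ≠ j) (v : ι → F) : ∃ a ∈ D i, ∃ b ∈ D j, v = a + b := by
  have h := Decomp.sum_comp P.decomp v
  rw [Fin.sum_univ_two] at h
  have h0 := Decomp.comp_mem P.decomp 0 v
  have h1 := Decomp.comp_mem P.decomp 1 v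
  rcases (show (i = 0 ∧ j = 1) ∨ (i = 1 ∧ j = 0) by omega) with ⟨rfl, rfl⟩ | ⟨rfl, rfl⟩
  · exact ⟨_, h0, _, h1, h.symm⟩
  · exact ⟨_, h1, _, h0, by rw [add_comm]; exact h.symm⟩

theorem Pair.disjoint {i j : Fin 2} (hij : i ≠ j) {x : ι → F} (hi : x ∈ D i) (hj : x ∈ D j) : x = 0 := by
  rw [← Decomp.comp_of_mem P.decomp hi, Decomp.comp_of_mem_ne P.decomp hij.symm hj]

theorem Pair.finrank_inf_ker {i : Fin 2} (W : Submodule F (ι → F)) (φ : (ι → F) →ₗ[F] F) (hW : W ≤ D i) :
    Module.finrank F W ≤ Module.finrank F ↥(W ⊓ LinearMap.ker φ) + 1 := by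
  have h1 := Submodule.finrank_sup_add_finrank_inf_eq W (LinearMap.ker φ)
  have h2 := Submodule.finrank_le (W ⊔ LinearMap.ker φ)
  have h3 := φ.finrank_range_add_finrank_ker
  have h4 := Submodule.finrank_le (LinearMap.range φ)
  rw [Module.finrank_self] at h4
  omega

/-- The functional `x ↦ f(x, v)`. -/
def Pair.lin (v : ι → F) : (ι → F) →ₗ[F] F where
  toFun x := f x v
  map_add' x y := P.sesq.add_left x y v
  map_smul' c x := P.sesq.smul_left c x v

theorem Pair.sep {i j : Fin 2} (hij : i ≠ j) {d₁ d₂ y : ι → F} (h1 : d₁ ∈ D j) (h2 : d₂ ∈ D j) (hy : y ∈ D j)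
    (hn : y ∉ Submodule.span F {d₁, d₂}) : ∃ s ∈ D i, f s d₁ = 0 ∧ f s d₂ = 0 ∧ f s y ≠ 0 := by
  have S := P.toIsSkewHerm
  by_contra hc
  push Not at hc
  let L : Fin 2 → (D i →ₗ[F] F) := ![(P.lin d₁).domRestrict (D i), (P.lin d₂).domRestrict (D i)]
  have hmem : (P.lin y).domRestrict (D i) ∈ Submodule.span F (Set.range L) := mem_span_of_iInf_ker_le_ker (by
    intro s hs
    rw [Submodule.mem_iInf] at hs
    exact hc s.1 s.2 (hs 0) (hs 1))
  obtain ⟨c, hc'⟩ := (Submodule.mem_span_range_iff_exists_fun F).1 hmem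
  apply hn
  refine Submodule.mem_span_pair.2 ⟨σ (c 0), σ (c 1), (sub_eq_zero.1 ?_).symm⟩
  by_contra hne
  set z := y - (σ (c 0) • d₁ + σ (c 1) • d₂) with hz
  have hzj : z ∈ D j := (D j).sub_mem hy ((D j).add_mem ((D j).smul_mem _ h1) ((D j).smul_mem _ h2))
  obtain ⟨x, hx⟩ := P.nondegenerate z hne
  apply hx
  obtain ⟨a, ha, b, hb, rfl⟩ := P.components hij x
  rw [add_right S, P.isotropic j z hzj b hb, add_zero]
  refine eq_zero_comm S ?_
  have e : ∀ s : D i, c 0 * f s d₁ + c 1 * f s d₂ = f s y := fun s => by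
    have := LinearMap.congr_fun hc' s
    rw [Fin.sum_univ_two] at this
    simpa [L, Pair.lin] using this
  rw [hz, sub_eq_add_neg, add_right S, neg_right S, add_right S, smul_right S, smul_right S, P.involutive,
    P.involutive]
  linear_combination -(e ⟨a, ha⟩)

theorem Pair.sep_one {i j : Fin 2} (hij : i ≠ j) {d y : ι → F} (h1 : d ∈ D j) (hy : y ∈ D j)
    (hn : y ∉ Submodule.span F {d}) : ∃ s ∈ D i, f s d = 0 ∧ f s y ≠ 0 := by
  obtain ⟨s, hs, e1, -, e3⟩ := P.sep hij h1 h1 hy (by simpa using hn)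
  exact ⟨s, hs, e1, e3⟩

/-- A vector of a summand orthogonal to a vector and outside a line. -/
theorem Pair.exists_avoid_one {i : Fin 2} (d e : ι → F) :
    ∃ z ∈ D i, f z d = 0 ∧ z ∉ Submodule.span F {e} := by
  classical
  have h1 := P.finrank_inf_ker (D i) (P.lin d) le_rfl
  have hk := P.decomp.finrank_eq i
  have := P.three
  have h3 := finrank_span_le_card (R := F) ({e} : Set (ι → F))
  simp only [Set.toFinset_singleton, Finset.card_singleton] at h3
  obtain ⟨z, ⟨hzi, hz1⟩, hn⟩ := SetLike.not_le_iff_exists.1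
    (show ¬ D i ⊓ LinearMap.ker (P.lin d) ≤ Submodule.span F {e} from fun h => by
      have := Submodule.finrank_mono h
      omega)
  exact ⟨z, hzi, hz1, hn⟩

/-- A vector of a summand outside a span of two vectors. -/
theorem Pair.exists_outside {i : Fin 2} (e₁ e₂ : ι → F) : ∃ z ∈ D i, z ∉ Submodule.span F {e₁, e₂} := by
  classical
  have hk := P.decomp.finrank_eq i
  have := P.three
  have h3 := finrank_span_finset_le_card (R := F) ({e₁, e₂} : Finset (ι → F))
  rw [Finset.coe_pair, Set.finrank] at h3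
  have h4 : Finset.card ({e₁, e₂} : Finset (ι → F)) ≤ 2 := Finset.card_le_two
  exact SetLike.not_le_iff_exists.1
    (show ¬ D i ≤ Submodule.span F {e₁, e₂} from fun h => by
      have := Submodule.finrank_mono h
      omega)

/-- A common zero of two functionals in a summand. -/
theorem Pair.exists_perp_two {i : Fin 2} (d₁ d₂ : ι → F) : ∃ z ∈ D i, z ≠ 0 ∧ f z d₁ = 0 ∧ f z d₂ = 0 := by
  set X := D i ⊓ LinearMap.ker (P.lin d₁) ⊓ LinearMap.ker (P.lin d₂) with hX
  have h1 := P.finrank_inf_ker (D i) (P.lin d₁) le_rfl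
  have h2 := P.finrank_inf_ker (i := i) _ (P.lin d₂) (inf_le_left : D i ⊓ LinearMap.ker (P.lin d₁) ≤ D i)
  have hk := P.decomp.finrank_eq i
  have := P.three
  obtain ⟨z, ⟨⟨hzi, hz1⟩, hz2⟩, hz0⟩ := Submodule.exists_mem_ne_zero_of_ne_bot (p := X) fun h => by
    rw [hX] at h
    rw [h, finrank_bot] at h2
    omega
  exact ⟨z, hzi, hz0, hz1, hz2⟩

theorem Pair.skew' (x y : ι → F) : f y x = -f x y := by rw [P.skew, P.refl]

theorem Pair.two_mul {c : F} (hc : c ≠ 0) : c + c ≠ 0 := by rw [← _root_.two_mul]; exact mul_ne_zero P.two hc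

omit P

variable {M : Subgroup (GL ι F)} (O : Over σ f D k M)
include O

/-- The commutator of two root elements with the same centre. -/
theorem tv_of_pair {v y y' : ι → F} {δ δ' : F} (hv0 : v ≠ 0) (hvv : f v v = 0) (hy : f v y = 0) (hy' : f v y' = 0)
    (h : root f v y δ ∈ M) (h' : root f v y' δ' ∈ M) (hne : f y' y ≠ 0) :
    ∃ w c, w ≠ 0 ∧ f w w = 0 ∧ σ c = c ∧ c ≠ 0 ∧ formTv f w c ∈ M := by
  have h5 := commutator_mem O.toIsSkewHerm hvv hy hy' h h'
  rw [O.toPair.skew' y' y, sub_neg_eq_add] at h5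
  exact ⟨v, _, hv0, hvv, O.refl _, O.toPair.two_mul hne, h5⟩

/-- A root element inside one summand. -/
theorem tv_of_inner {i j : Fin 2} (hij : i ≠ j) {p q : ι → F} (hp : p ∈ D i) (hq : q ∈ D i) (hp0 : p ≠ 0)
    (hqp : q ∉ Submodule.span F {p}) {δ : F} (h : root f p q δ ∈ M) :
    ∃ w c, w ≠ 0 ∧ f w w = 0 ∧ σ c = c ∧ c ≠ 0 ∧ formTv f w c ∈ M := by
  have S := O.toIsSkewHerm
  have P := O.toPair
  obtain ⟨b₀, hb₀, hb1, hb2⟩ := P.sep_one hij.symm hp hq hqp
  set b := (f q b₀)⁻¹ • b₀ with hb'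
  have hqb : f q b = 1 := by
    rw [hb', smul_right S, P.refl, inv_mul_cancel₀ (ne_zero_comm S hb2)]
  have hpb : f p b = 0 := by rw [hb', smul_right S, eq_zero_comm S hb1, mul_zero]
  have hpp := P.isotropic i p hp p hp
  have hpq := P.isotropic i p hp q hq
  have hh := O.root_mem i j hij p hp b ((D j).smul_mem _ hb₀) hpb
  have h3 := M.mul_mem (M.mul_mem hh h) (M.inv_mem hh)
  rw [root_conj S (O.isometry _ hh) hpp hpq] at h3
  have e1 : (root f p b 0 : Matrix ι ι F) *ᵥ p = p := by rw [root_mulVec S hpp hpb, hpp, hpb]; simp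
  have e2 : (root f p b 0 : Matrix ι ι F) *ᵥ q = q + p := by
    rw [root_mulVec S hpp hpb, P.isotropic i q hq p hp, hqb]; simp
  rw [e1, e2] at h3
  have h4 := M.mul_mem (M.inv_mem h) h3
  rw [root_inv S hpp hpq, root_mul S hpp (by rw [neg_right S, hpq, neg_zero])
    (by rw [add_right S, hpq, hpp, add_zero]), neg_add_cancel_left, neg_right S, add_left S,
    P.isotropic i q hq q hq, P.isotropic i p hp q hq] at h4
  refine ⟨p, 2, hp0, hpp, P.refl _, P.two, ?_⟩
  convert h4 using 1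
  refine gl_ext fun x => ?_
  rw [formTv_mulVec S hpp, root_mulVec S hpp hpp]
  match_scalars <;> ring

/-- A root element with one end in a summand. -/
theorem tv_of_root_summand {a b : Fin 2} (hab : a ≠ b) {w₁ w₂ y : ι → F} (hw₁ : w₁ ∈ D a) (hw₂ : w₂ ∈ D b)
    (hy : y ∈ D b) (hy0 : y ≠ 0) (hw20 : w₂ ≠ 0) (h : root f (w₁ + w₂) y 0 ∈ M) (hvy : f (w₁ + w₂) y = 0)
    (hvv : f (w₁ + w₂) (w₁ + w₂) = 0) :
    ∃ w c, w ≠ 0 ∧ f w w = 0 ∧ σ c = c ∧ c ≠ 0 ∧ formTv f w c ∈ M := by
  have S := O.toIsSkewHerm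
  have P := O.toPair
  have hyy := P.isotropic b y hy y hy
  have hwy : f w₁ y = 0 := by rwa [add_left S, P.isotropic b w₂ hw₂ y hy, add_zero] at hvy
  by_cases hin : w₂ ∈ Submodule.span F {y}
  · obtain ⟨c, rfl⟩ := Submodule.mem_span_singleton.1 hin
    have hc : c ≠ 0 := left_ne_zero_of_smul hw20
    refine ⟨y, c + c, hy0, hyy, P.refl _, P.two_mul hc, ?_⟩
    have h3 := M.mul_mem (M.inv_mem (O.root_mem a b hab w₁ hw₁ y hy hwy)) h
    convert h3 using 1
    rw [eq_inv_mul_iff_mul_eq]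
    refine gl_ext fun x => ?_
    rw [gl_mul_mulVec, formTv_mulVec S hyy, root_mulVec S (P.isotropic a w₁ hw₁ w₁ hw₁) hwy,
      root_mulVec S hvv hvy]
    simp only [add_left S, add_right S, smul_left S, smul_right S, P.refl, P.skew' w₁ y, hwy, hyy, neg_zero]
    match_scalars <;> ring
  · rw [root_swap S hvv hyy hvy] at h
    have hyw : f y w₁ = 0 := eq_zero_comm S hwy
    have h3 := M.mul_mem (M.inv_mem (O.root_mem b a hab.symm y hy w₁ hw₁ hyw)) h
    rw [root_inv S hyy hyw, root_mul S hyy (by rw [neg_right S, hyw, neg_zero]) (eq_zero_comm S hvy),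
      neg_add_cancel_left] at h3
    exact tv_of_inner O hab.symm hy hw₂ hy0 hin h3

/-- A root element with both components independent gives a transvection: perpendicular components. -/
theorem tv_of_root_perp (hk3 : k = 3) {i j : Fin 2} (hij : i ≠ j) {v₁ v₂ x₁ x₂ : ι → F} (hv₁ : v₁ ∈ D i) (hv₂ : v₂ ∈ D j)
    (hx₁ : x₁ ∈ D i) (hx₂ : x₂ ∈ D j) (hv10 : v₁ ≠ 0) (hv20 : v₂ ≠ 0)
    (ht : f x₁ v₂ = 0) (ht' : f v₁ x₂ = 0) (h1 : x₁ ∉ Submodule.span F {v₁}) (h2 : x₂ ∉ Submodule.span F {v₂})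
    {γ : F} (h : root f (v₁ + v₂) (x₁ + x₂) γ ∈ M) :
    ∃ w c, w ≠ 0 ∧ f w w = 0 ∧ σ c = c ∧ c ≠ 0 ∧ formTv f w c ∈ M := by
  have S := O.toIsSkewHerm
  have P := O.toPair
  set v := v₁ + v₂ with hv
  set x := x₁ + x₂ with hx
  have hv0 : v ≠ 0 := fun e => hv10 (P.disjoint hij hv₁ (by
    rw [eq_neg_of_add_eq_zero_left (hv ▸ e : v₁ + v₂ = 0)]; exact (D j).neg_mem hv₂))
  have hvv : f v v = 0 := by
    rw [hv, add_left S, add_right S, add_right S, P.isotropic i v₁ hv₁ v₁ hv₁, P.isotropic j v₂ hv₂ v₂ hv₂,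
      P.skew' v₁ v₂]
    ring
  have hvx : f v x = 0 := by
    rw [hv, hx, add_left S, add_right S, add_right S, P.isotropic i v₁ hv₁ x₁ hx₁, P.isotropic j v₂ hv₂ x₂ hx₂,
      P.skew' x₁ v₂, ht, ht']
    simp
  have hmk : ∀ a ∈ D i, ∀ b ∈ D j, f a v₂ = 0 → f b v₁ = 0 → f a b = 0 →
      ∃ δ, root f v (f x a • b + f x b • a) δ ∈ M ∧ f v (f x a • b + f x b • a) = 0 := by
    intro a ha b hb hav hbv hab
    have hh := O.root_mem i j hij a ha b hb hab
    have haa := P.isotropic i a ha a ha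
    have hva : f v a = 0 := by
      rw [hv, add_left S, P.isotropic i v₁ hv₁ a ha, eq_zero_comm S hav, add_zero]
    have hvb : f v b = 0 := by
      rw [hv, add_left S, P.isotropic j v₂ hv₂ b hb, eq_zero_comm S hbv, add_zero]
    have hfix : (root f a b 0 : Matrix ι ι F) *ᵥ v = v := by
      rw [root_mulVec S haa hab, hva, hvb]; simp
    have hmove : (root f a b 0 : Matrix ι ι F) *ᵥ x = x + (f x a • b + f x b • a) := by
      rw [root_mulVec S haa hab, zero_mul, zero_add, add_assoc]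
    have h3 := M.mul_mem (M.mul_mem hh h) (M.inv_mem hh)
    rw [root_conj S (O.isometry _ hh) hvv hvx, hfix, hmove] at h3
    have hvy : f v (f x a • b + f x b • a) = 0 := by
      rw [add_right S, smul_right S, smul_right S, hva, hvb, mul_zero, mul_zero, add_zero]
    have h4 := M.mul_mem (M.inv_mem h) h3
    rw [root_inv S hvv hvx, root_mul S hvv (by rw [neg_right S, hvx, neg_zero])
      (by rw [add_right S, hvx, hvy, add_zero]), neg_add_cancel_left] at h4
    exact ⟨_, h4, hvy⟩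
  have hxi : ∀ a ∈ D i, f x a = f x₂ a := fun a ha => by
    rw [hx, add_left S, P.isotropic i x₁ hx₁ a ha, zero_add]
  have hxj : ∀ b ∈ D j, f x b = f x₁ b := fun b hb => by
    rw [hx, add_left S, P.isotropic j x₂ hx₂ b hb, add_zero]
  by_cases he : f v₁ v₂ = 0
  · -- orthogonal components
    have hc : f x₁ x₂ ≠ 0 := by
      intro hc
      obtain ⟨s, hs, s1, s2⟩ := P.sep_one hij hv₂ hx₂ h2
      obtain ⟨r, hr, r1⟩ : ∃ r ∈ D i, f r v₂ ≠ 0 := by
        obtain ⟨z, hz⟩ := P.nondegenerate v₂ hv20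
        obtain ⟨p, hp, p', hp', rfl⟩ := P.components hij z
        rw [add_right S, P.isotropic j v₂ hv₂ p' hp', add_zero] at hz
        exact ⟨p, hp, ne_zero_comm S hz⟩
      have hli : LinearIndependent F ![v₁, x₁, s, r] := by
        rw [Fintype.linearIndependent_iff]
        intro g hg
        simp only [Fin.sum_univ_four, Matrix.cons_val_zero, Matrix.cons_val_one, Matrix.cons_val] at hg
        have a1 := congrArg (fun z => f z v₂) hg
        simp only [add_left S, smul_left S, he, ht, s1, zero_left S, mul_zero, zero_add] at a1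
        have g3 : g 3 = 0 := (mul_eq_zero.1 a1).resolve_right r1
        have a2 := congrArg (fun z => f z x₂) hg
        simp only [add_left S, smul_left S, ht', hc, g3, zero_left S, zero_mul, mul_zero, zero_add, add_zero] at a2
        have g2 : g 2 = 0 := (mul_eq_zero.1 a2).resolve_right s2
        rw [g2, g3, zero_smul, zero_smul, add_zero, add_zero] at hg
        have g1 : g 1 = 0 := by
          by_contra g1
          refine h1 (Submodule.mem_span_singleton.2 ⟨-(g 0 / g 1), ?_⟩)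
          rw [show x₁ = (g 1)⁻¹ • (g 1 • x₁) by rw [inv_smul_smul₀ g1], eq_neg_of_add_eq_zero_right hg]
          module
        rw [g1, zero_smul, add_zero] at hg
        have g0 : g 0 = 0 := (smul_eq_zero.1 hg).resolve_right hv10
        intro n
        fin_cases n <;> assumption
      have h4 := finrank_span_eq_card hli
      have h5 := Submodule.finrank_mono (show Submodule.span F (Set.range ![v₁, x₁, s, r]) ≤ D i from
        Submodule.span_le.2 (by rintro _ ⟨n, rfl⟩; fin_cases n <;> assumption))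
      rw [h4, P.decomp.finrank_eq, hk3, Fintype.card_fin] at h5
      omega
    obtain ⟨δ, hδ, -⟩ := hmk x₁ hx₁ v₂ hv₂ ht (eq_zero_comm S he) ht
    rw [hxi x₁ hx₁, P.skew' x₁ x₂, hxj v₂ hv₂, ht, zero_smul, add_zero] at hδ
    set κ := -f x₁ x₂ with hκ
    have hvκ : f v (κ • v₂) = 0 := by
      rw [smul_right S, hv, add_left S, he, P.isotropic j v₂ hv₂ v₂ hv₂]; simp
    have hv11 := P.isotropic i v₁ hv₁ v₁ hv₁
    have hv22 := P.isotropic j v₂ hv₂ v₂ hv₂
    have hw : f v₁ ((κ + δ) • v₂) = 0 := by rw [smul_right S, he, mul_zero]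
    have hN : formTv f v₁ δ * formTv f v₂ (κ + κ + δ) ∈ M := by
      have h3 := M.mul_mem (M.inv_mem (O.root_mem i j hij v₁ hv₁ _ ((D j).smul_mem (κ + δ) hv₂) hw)) hδ
      convert h3 using 1
      rw [eq_inv_mul_iff_mul_eq]
      refine gl_ext fun z => ?_
      rw [gl_mul_mulVec, gl_mul_mulVec, formTv_mulVec S hv22, formTv_mulVec S hv11, root_mulVec S hv11 hw,
        root_mulVec S hvv hvκ, hv]
      simp only [add_left S, add_right S, smul_left S, smul_right S, P.refl, he, P.skew' v₁ v₂, hv11, hv22,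
        neg_zero]
      match_scalars <;> ring
    by_cases hd : δ = 0
    · rw [hd, show formTv f v₁ (0 : F) = 1 from gl_ext fun z => by simp [formTv_mulVec S hv11], one_mul,
        add_zero] at hN
      exact ⟨v₂, _, hv20, hv22, P.refl _, P.two_mul (neg_ne_zero.2 hc), hN⟩
    have hv1x : v₁ ∉ Submodule.span F {x₁} := fun hin => by
      obtain ⟨r, hr⟩ := Submodule.mem_span_singleton.1 hin
      exact h1 (Submodule.mem_span_singleton.2 ⟨r⁻¹, by
        rw [← hr, inv_smul_smul₀ (fun e => hv10 (by rw [← hr, e, zero_smul]))]⟩)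
    obtain ⟨b₀, hb₀, hb1, hb2⟩ := P.sep_one hij.symm hx₁ hv₁ hv1x
    set b := (f v₁ b₀)⁻¹ • b₀ with hb'
    have hxb : f x₁ b = 0 := by rw [hb', smul_right S, eq_zero_comm S hb1, mul_zero]
    have hvb : f v₁ b = 1 := by rw [hb', smul_right S, P.refl, inv_mul_cancel₀ (ne_zero_comm S hb2)]
    have hbD : b ∈ D j := (D j).smul_mem _ hb₀
    have hh := O.root_mem i j hij x₁ hx₁ b hbD hxb
    have hxx := P.isotropic i x₁ hx₁ x₁ hx₁
    have hiso := O.isometry _ hh
    have e1 : (root f x₁ b 0 : Matrix ι ι F) *ᵥ v₁ = v₁ + x₁ := by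
      rw [root_mulVec S hxx hxb, P.isotropic i v₁ hv₁ x₁ hx₁, hvb]; simp
    have e2 : (root f x₁ b 0 : Matrix ι ι F) *ᵥ v₂ = v₂ := by
      rw [root_mulVec S hxx hxb, eq_zero_comm S ht, P.isotropic j v₂ hv₂ b hbD]; simp
    have htc : ∀ z, f z z = 0 → ∀ c, root f x₁ b 0 * formTv f z c * (root f x₁ b 0)⁻¹ =
        formTv f ((root f x₁ b 0 : Matrix ι ι F) *ᵥ z) c := fun z hz c => by
      rw [← root_zero S hz, root_conj S hiso hz (zero_right S z), mulVec_zero, root_zero S (by rw [hiso, hz])]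
    have h3 := M.mul_mem (M.mul_mem (M.mul_mem hh hN) (M.inv_mem hh)) (M.inv_mem hN)
    rw [show root f x₁ b 0 * (formTv f v₁ δ * formTv f v₂ (κ + κ + δ)) * (root f x₁ b 0)⁻¹ =
      (root f x₁ b 0 * formTv f v₁ δ * (root f x₁ b 0)⁻¹) *
        (root f x₁ b 0 * formTv f v₂ (κ + κ + δ) * (root f x₁ b 0)⁻¹) by group, htc _ hv11, htc _ hv22, e1, e2,
      _root_.mul_inv_rev, mul_assoc, mul_inv_cancel_left] at h3
    have hxv : f x₁ (δ • v₁) = 0 := by rw [smul_right S, P.isotropic i x₁ hx₁ v₁ hv₁, mul_zero]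
    refine tv_of_inner O hij hx₁ ((D i).smul_mem δ hv₁) (fun e => h1 (e ▸ Submodule.zero_mem _))
      (fun hin => hv1x ((Submodule.smul_mem_iff _ hd).1 hin)) (δ := δ) ?_
    convert h3 using 1
    rw [eq_mul_inv_iff_mul_eq]
    refine gl_ext fun z => ?_
    have hvx1 := P.isotropic i v₁ hv₁ x₁ hx₁
    have hx1v := P.isotropic i x₁ hx₁ v₁ hv₁
    rw [gl_mul_mulVec, formTv_mulVec S hv11, root_mulVec S hxx hxv, formTv_mulVec S
      (by rw [add_left S, add_right S, add_right S, hv11, hxx, hvx1, hx1v]; simp)]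
    simp only [add_left S, add_right S, smul_left S, smul_right S, P.refl, hv11, hxx, hvx1, hx1v]
    match_scalars <;> ring
  · by_cases hc : f x₁ x₂ = 0
    · obtain ⟨s₀, hs₀, s1, s2⟩ := P.sep_one hij hv₂ hx₂ h2
      set s := (f s₀ x₂)⁻¹ • s₀ with hs'
      have hsD : s ∈ D i := (D i).smul_mem _ hs₀
      have hsv : f s v₂ = 0 := by rw [hs', smul_left S, s1, mul_zero]
      have hsx : f s x₂ = 1 := by rw [hs', smul_left S, inv_mul_cancel₀ s2]
      have hn : x₁ ∉ Submodule.span F {v₁, s} := by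
        intro hin
        obtain ⟨α, β, hab⟩ := Submodule.mem_span_pair.1 hin
        have a1 := congrArg (fun z => f z v₂) hab
        simp only [add_left S, smul_left S, hsv, ht, mul_zero, add_zero] at a1
        have a2 := congrArg (fun z => f z x₂) hab
        simp only [add_left S, smul_left S, hsx, hc, (mul_eq_zero.1 a1).resolve_right he, zero_mul, zero_add,
          mul_one] at a2
        exact h1 (Submodule.mem_span_singleton.2 ⟨α, by rw [← hab, a2, zero_smul, add_zero]⟩)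
      obtain ⟨z₀, hz₀, z1, z2, z3⟩ := P.sep hij.symm hv₁ hsD hx₁ hn
      set z := (f x₁ z₀)⁻¹ • z₀ with hz'
      have hzD : z ∈ D j := (D j).smul_mem _ hz₀
      have hzx : f x₁ z = 1 := by rw [hz', smul_right S, P.refl, inv_mul_cancel₀ (ne_zero_comm S z3)]
      have hvz : f v₁ z = 0 := by rw [hz', smul_right S, eq_zero_comm S z1, mul_zero]
      have hsz : f s z = 0 := by rw [hz', smul_right S, eq_zero_comm S z2, mul_zero]
      have he1 := (D i).add_mem hx₁ hsD
      have he2 := (D i).sub_mem hx₁ hsD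
      have hf1 := (D j).add_mem hzD hx₂
      have hf2 := (D j).sub_mem hzD hx₂
      obtain ⟨δ, hδ, hy⟩ := hmk _ he1 _ hf2 (by rw [add_left S, ht, hsv, add_zero])
        (by rw [sub_eq_add_neg, add_left S, neg_left S, eq_zero_comm S hvz, eq_zero_comm S ht']; simp)
        (by rw [sub_eq_add_neg, add_left S, add_right S, add_right S, neg_right S, neg_right S, hzx, hc, hsz,
          hsx]; ring)
      obtain ⟨δ', hδ', hy'⟩ := hmk _ he2 _ hf1
        (by rw [sub_eq_add_neg, add_left S, neg_left S, ht, hsv]; simp)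
        (by rw [add_left S, eq_zero_comm S hvz, eq_zero_comm S ht', add_zero])
        (by rw [sub_eq_add_neg, add_left S, neg_left S, add_right S, add_right S, hzx, hc, hsz, hsx]; ring)
      refine tv_of_pair O hv0 hvv hy hy' hδ hδ' ?_
      rw [hxi _ he1, hxi _ he2, hxj _ hf1, hxj _ hf2]
      simp only [sub_eq_add_neg, add_left S, add_right S, neg_left S, neg_right S, smul_left S, smul_right S,
        P.refl, P.skew' s x₂, P.skew' x₁ x₂, hzx, hc, hsz, hsx, P.skew' x₁ z, P.skew' s z,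
        P.isotropic i x₁ hx₁ x₁ hx₁, P.isotropic i x₁ hx₁ s hsD, P.isotropic i s hsD x₁ hx₁,
        P.isotropic i s hsD s hsD, P.isotropic j z hzD z hzD, P.isotropic j z hzD x₂ hx₂,
        P.isotropic j x₂ hx₂ z hzD, P.isotropic j x₂ hx₂ x₂ hx₂]
      intro e
      exact P.two (mul_self_eq_zero.1 (by linear_combination -e))
    · obtain ⟨e, heD, he0, e1, e2⟩ := P.exists_perp_two (i := i) v₂ x₂
      have hn : e ∉ Submodule.span F {v₁, x₁} := by
        intro hin
        obtain ⟨α, β, hab⟩ := Submodule.mem_span_pair.1 hin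
        have a1 := congrArg (fun z => f z v₂) hab
        simp only [add_left S, smul_left S, ht, e1, mul_zero, add_zero] at a1
        have a2 := congrArg (fun z => f z x₂) hab
        simp only [add_left S, smul_left S, ht', e2, mul_zero, zero_add] at a2
        rw [(mul_eq_zero.1 a1).resolve_right he, (mul_eq_zero.1 a2).resolve_right hc, zero_smul, zero_smul,
          add_zero] at hab
        exact he0 hab.symm
      obtain ⟨z, hz, z1, z2, z3⟩ := P.sep hij.symm hv₁ hx₁ heD hn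
      obtain ⟨δ, hδ, hy⟩ := hmk x₁ hx₁ z hz ht z1 (eq_zero_comm S z2)
      obtain ⟨δ', hδ', hy'⟩ := hmk e heD x₂ hx₂ e1 (eq_zero_comm S ht') e2
      refine tv_of_pair O hv0 hvv hy hy' hδ hδ' ?_
      rw [hxi _ hx₁, hxi _ heD, hxj _ hz, hxj _ hx₂]
      simp only [add_left S, add_right S, smul_left S, smul_right S, P.refl, P.skew' x₁ x₂, eq_zero_comm S z2,
        eq_zero_comm S e2, zero_smul, add_zero, zero_add, mul_zero, zero_mul, neg_mul, mul_neg]
      exact neg_ne_zero.2 (mul_ne_zero hc (mul_ne_zero hc (ne_zero_comm S z3)))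

/-- In dimension at least four a root element with both components independent gives a transvection. -/
theorem tv_of_root_four (hk : 4 ≤ k) {i j : Fin 2} (hij : i ≠ j) {v₁ v₂ x₁ x₂ : ι → F} (hv₁ : v₁ ∈ D i)
    (hv₂ : v₂ ∈ D j) (hx₁ : x₁ ∈ D i) (hx₂ : x₂ ∈ D j) (hv10 : v₁ ≠ 0)
    (hvx : f (v₁ + v₂) (x₁ + x₂) = 0) (h1 : x₁ ∉ Submodule.span F {v₁}) (h2 : x₂ ∉ Submodule.span F {v₂})
    {γ : F} (h : root f (v₁ + v₂) (x₁ + x₂) γ ∈ M) :
    ∃ w c, w ≠ 0 ∧ f w w = 0 ∧ σ c = c ∧ c ≠ 0 ∧ formTv f w c ∈ M := by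
  classical
  have S := O.toIsSkewHerm
  have P := O.toPair
  set v := v₁ + v₂ with hv
  set x := x₁ + x₂ with hx
  have hv0 : v ≠ 0 := fun e => hv10 (P.disjoint hij hv₁ (by
    rw [eq_neg_of_add_eq_zero_left (hv ▸ e : v₁ + v₂ = 0)]; exact (D j).neg_mem hv₂))
  have hvv : f v v = 0 := by
    rw [hv, add_left S, add_right S, add_right S, P.isotropic i v₁ hv₁ v₁ hv₁, P.isotropic j v₂ hv₂ v₂ hv₂,
      P.skew' v₁ v₂]
    ring
  obtain ⟨b₀, hb₀, c1, c2⟩ := P.sep_one hij.symm hv₁ hx₁ h1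
  obtain ⟨b, hb, b1, b2, b3⟩ : ∃ b ∈ D j, f b v₁ = 0 ∧ f b x₁ ≠ 0 ∧ b ∉ Submodule.span F {v₂, x₂} := by
    by_cases hin : b₀ ∈ Submodule.span F {v₂, x₂}
    · have hd := P.finrank_inf_ker (D j) (P.lin v₁) le_rfl
      rw [P.decomp.finrank_eq] at hd
      have h3 := finrank_span_finset_le_card (R := F) ({v₂, x₂} : Finset (ι → F))
      rw [Finset.coe_pair, Set.finrank] at h3
      have h4 : Finset.card ({v₂, x₂} : Finset (ι → F)) ≤ 2 := Finset.card_le_two
      obtain ⟨b', ⟨hb', hb'1⟩, hn⟩ := SetLike.not_le_iff_exists.1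
        (show ¬ D j ⊓ LinearMap.ker (P.lin v₁) ≤ Submodule.span F {v₂, x₂} from fun h => by
          have := Submodule.finrank_mono h
          omega)
      have e1 : f b' v₁ = 0 := hb'1
      by_cases e2 : f b' x₁ = 0
      · refine ⟨b₀ + b', (D j).add_mem hb₀ hb', by rw [add_left S, c1, e1, add_zero], ?_, fun hh => hn ?_⟩
        · rwa [add_left S, e2, add_zero]
        · simpa using Submodule.sub_mem _ hh hin
      · exact ⟨b', hb', e1, e2, hn⟩
    · exact ⟨b₀, hb₀, c1, c2, hin⟩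
  have hx2n : x₂ ∉ Submodule.span F {v₂, b} := fun hin => by
    obtain ⟨r, t, hrt⟩ := Submodule.mem_span_pair.1 hin
    have ht : t ≠ 0 := fun h0 => h2 (Submodule.mem_span_singleton.2 ⟨r, by rw [← hrt, h0, zero_smul, add_zero]⟩)
    refine b3 (Submodule.mem_span_pair.2 ⟨-(r / t), t⁻¹, ?_⟩)
    rw [← hrt]
    match_scalars <;> field_simp <;> ring
  obtain ⟨a, ha, a1, a2, a3⟩ := P.sep hij hv₂ hb hx₂ hx2n
  have haa := P.isotropic i a ha a ha
  have hva : f v a = 0 := by
    rw [hv, add_left S, P.isotropic i v₁ hv₁ a ha, eq_zero_comm S a1, add_zero]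
  have hvb : f v b = 0 := by
    rw [hv, add_left S, P.isotropic j v₂ hv₂ b hb, eq_zero_comm S b1, add_zero]
  have hh := O.root_mem i j hij a ha b hb a2
  have h3 := M.mul_mem (M.mul_mem hh h) (M.inv_mem hh)
  set y := f x a • b + f x b • a with hy
  have hfix : (root f a b 0 : Matrix ι ι F) *ᵥ v = v := by rw [root_mulVec S haa a2, hva, hvb]; simp
  have hmove : (root f a b 0 : Matrix ι ι F) *ᵥ x = x + y := by
    rw [root_mulVec S haa a2, zero_mul, zero_add, add_assoc]
  rw [root_conj S (O.isometry _ hh) hvv hvx, hfix, hmove] at h3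
  have hvy : f v y = 0 := by
    rw [hy, add_right S, smul_right S, smul_right S, hva, hvb, mul_zero, mul_zero, add_zero]
  have h4 := M.mul_mem (M.inv_mem h) h3
  rw [root_inv S hvv hvx, root_mul S hvv (by rw [neg_right S, hvx, neg_zero])
    (by rw [add_right S, hvx, hvy, add_zero]), neg_add_cancel_left] at h4
  refine tv_of_pair O hv0 hvv hvx hvy h h4 ?_
  have e1 : f x a ≠ 0 := by
    rw [hx, add_left S, P.isotropic i x₁ hx₁ a ha, zero_add]
    exact ne_zero_comm S a3
  have e2 : f x b ≠ 0 := by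
    rw [hx, add_left S, P.isotropic j x₂ hx₂ b hb, add_zero]
    exact ne_zero_comm S b2
  rw [hy, add_left S, smul_left S, smul_left S, P.skew' x b, P.skew' x a]
  intro hc
  exact mul_ne_zero e1 e2 (mul_left_cancel₀ P.two (by linear_combination -hc))

/-- A root element with both components independent gives a transvection. -/
theorem tv_of_root {i j : Fin 2} (hij : i ≠ j) {v₁ v₂ x₁ x₂ : ι → F} (hv₁ : v₁ ∈ D i) (hv₂ : v₂ ∈ D j)
    (hx₁ : x₁ ∈ D i) (hx₂ : x₂ ∈ D j) (hv10 : v₁ ≠ 0) (hv20 : v₂ ≠ 0)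
    (hvx : f (v₁ + v₂) (x₁ + x₂) = 0) (h1 : x₁ ∉ Submodule.span F {v₁}) (h2 : x₂ ∉ Submodule.span F {v₂})
    {γ : F} (h : root f (v₁ + v₂) (x₁ + x₂) γ ∈ M) :
    ∃ w c, w ≠ 0 ∧ f w w = 0 ∧ σ c = c ∧ c ≠ 0 ∧ formTv f w c ∈ M := by
  rcases le_or_gt 4 k with hk | hk
  · exact tv_of_root_four O hk hij hv₁ hv₂ hx₁ hx₂ hv10 hvx h1 h2 h
  have hk3 : k = 3 := le_antisymm (by omega) O.three
  have S := O.toIsSkewHerm
  have P := O.toPair
  set v := v₁ + v₂ with hv
  set x := x₁ + x₂ with hx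
  have hv11 := P.isotropic i v₁ hv₁ v₁ hv₁
  have hv22 := P.isotropic j v₂ hv₂ v₂ hv₂
  have hvv : f v v = 0 := by
    rw [hv, add_left S, add_right S, add_right S, hv11, hv22, P.skew' v₁ v₂]
    ring
  have htt : f v₁ x₂ = f x₁ v₂ := by
    have hvx' := hvx
    rw [hv, hx, add_left S, add_right S, add_right S, P.isotropic i v₁ hv₁ x₁ hx₁,
      P.isotropic j v₂ hv₂ x₂ hx₂, P.skew' x₁ v₂] at hvx'
    linear_combination hvx'
  by_cases ht : f x₁ v₂ = 0
  · exact tv_of_root_perp O hk3 hij hv₁ hv₂ hx₁ hx₂ hv10 hv20 ht (htt.trans ht) h1 h2 h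
  by_cases he : f v₁ v₂ = 0
  · have hx1 : f x v₁ = -f x₁ v₂ := by
      rw [hx, add_left S, P.isotropic i x₁ hx₁ v₁ hv₁, zero_add, P.skew' v₁ x₂, htt]
    have hx2 : f x v₂ = f x₁ v₂ := by rw [hx, add_left S, P.isotropic j x₂ hx₂ v₂ hv₂, add_zero]
    obtain ⟨a, ha, a1, a2⟩ := P.exists_avoid_one (i := i) v₂ v₁
    obtain ⟨b, hb, b1, b2⟩ := P.sep_one hij.symm hv₁ ha a2
    have hh1 := O.root_mem i j hij a ha v₂ hv₂ a1
    have hh2 := O.root_mem i j hij v₁ hv₁ b hb (eq_zero_comm S b1)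
    have hmk : ∀ p ∈ D i, ∀ q ∈ D j, f p q = 0 → f v p = 0 → f v q = 0 →
        root f p q 0 ∈ M → ∃ δ, root f v (f x p • q + f x q • p) δ ∈ M ∧ f v (f x p • q + f x q • p) = 0 := by
      intro p hp q hq hpq hvp hvq hh
      have hpp := P.isotropic i p hp p hp
      have hfix : (root f p q 0 : Matrix ι ι F) *ᵥ v = v := by
        rw [root_mulVec S hpp hpq, hvp, hvq]; simp
      have hmove : (root f p q 0 : Matrix ι ι F) *ᵥ x = x + (f x p • q + f x q • p) := by
        rw [root_mulVec S hpp hpq, zero_mul, zero_add, add_assoc]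
      have h3 := M.mul_mem (M.mul_mem hh h) (M.inv_mem hh)
      rw [root_conj S (O.isometry _ hh) hvv hvx, hfix, hmove] at h3
      have hvy : f v (f x p • q + f x q • p) = 0 := by
        rw [add_right S, smul_right S, smul_right S, hvp, hvq, mul_zero, mul_zero, add_zero]
      have h4 := M.mul_mem (M.inv_mem h) h3
      rw [root_inv S hvv hvx, root_mul S hvv (by rw [neg_right S, hvx, neg_zero])
        (by rw [add_right S, hvx, hvy, add_zero]), neg_add_cancel_left] at h4
      exact ⟨_, h4, hvy⟩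
    obtain ⟨δ, hδ, hy⟩ := hmk a ha v₂ hv₂ a1
      (by rw [hv, add_left S, P.isotropic i v₁ hv₁ a ha, eq_zero_comm S a1, add_zero])
      (by rw [hv, add_left S, he, hv22, add_zero]) hh1
    obtain ⟨δ', hδ', hy'⟩ := hmk v₁ hv₁ b hb (eq_zero_comm S b1)
      (by rw [hv, add_left S, hv11, eq_zero_comm S he, add_zero])
      (by rw [hv, add_left S, eq_zero_comm S b1, P.isotropic j v₂ hv₂ b hb, add_zero]) hh2
    have hv0 : v ≠ 0 := fun e => hv10 (P.disjoint hij hv₁ (by
      rw [eq_neg_of_add_eq_zero_left (hv ▸ e : v₁ + v₂ = 0)]; exact (D j).neg_mem hv₂))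
    refine tv_of_pair O hv0 hvv hy hy' hδ hδ' ?_
    rw [hx1, hx2]
    simp only [add_left S, add_right S, smul_left S, smul_right S, P.refl, he,
      P.isotropic j b hb v₂ hv₂, P.isotropic i v₁ hv₁ a ha, mul_zero, add_zero, zero_add]
    exact mul_ne_zero (neg_ne_zero.2 ht) (mul_ne_zero ht b2)
  · set μ := f x₁ v₂ / f v₁ v₂ with hμ
    have e1 : f (x₁ - μ • v₁) v₂ = 0 := by
      rw [sub_eq_add_neg, add_left S, neg_left S, smul_left S, hμ, div_mul_cancel₀ _ he, add_neg_cancel]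
    have e2 : f v₁ (x₂ - μ • v₂) = 0 := by
      rw [sub_eq_add_neg, add_right S, neg_right S, smul_right S, P.refl, htt, hμ, div_mul_cancel₀ _ he,
        add_neg_cancel]
    refine tv_of_root_perp O hk3 hij hv₁ hv₂ ((D i).sub_mem hx₁ ((D i).smul_mem μ hv₁))
      ((D j).sub_mem hx₂ ((D j).smul_mem μ hv₂)) hv10 hv20 e1 e2 (fun hin => h1 ?_) (fun hin => h2 ?_)
      (γ := γ + μ + μ) ?_
    · simpa using Submodule.add_mem _ hin (Submodule.smul_mem _ μ (Submodule.mem_span_singleton_self v₁))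
    · simpa using Submodule.add_mem _ hin (Submodule.smul_mem _ μ (Submodule.mem_span_singleton_self v₂))
    · have hsum : x₁ - μ • v₁ + (x₂ - μ • v₂) = x + (-μ) • v := by rw [hx, hv]; module
      convert h using 1
      rw [hsum]
      refine gl_ext fun z => ?_
      rw [root_mulVec S hvv hvx, root_mulVec S hvv
        (by rw [add_right S, smul_right S, hvv, hvx, mul_zero, add_zero])]
      simp only [add_right S, smul_right S, P.refl]
      module

theorem move_summand {g : GL ι F} (hg : g ∈ M)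
    (hno : ∀ v c, v ≠ 0 → f v v = 0 → σ c = c → c ≠ 0 → formTv f v c ∉ M) (i : Fin 2) {u : ι → F} (hu : u ∈ D i) :
    (g : Matrix ι ι F) *ᵥ u ∈ D 0 ∨ (g : Matrix ι ι F) *ᵥ u ∈ D 1 := by
  classical
  have S := O.toIsSkewHerm
  have P := O.toPair
  obtain ⟨v₁, hv₁, v₂, hv₂, hgu⟩ := P.components (show (0 : Fin 2) ≠ 1 by decide) ((g : Matrix ι ι F) *ᵥ u)
  by_contra hc
  push Not at hc
  have hv10 : v₁ ≠ 0 := fun h => hc.2 (by rw [hgu, h, zero_add]; exact hv₂)
  have hv20 : v₂ ≠ 0 := fun h => hc.1 (by rw [hgu, h, add_zero]; exact hv₁)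
  obtain ⟨j, hij⟩ : ∃ j, i ≠ j := exists_ne i |>.imp fun _ h => h.symm
  set v := v₁ + v₂ with hv
  have hgi := O.isometry g hg
  have hvv : f v v = 0 := by rw [← hgu, hgi, P.isotropic i u hu u hu]
  have hvne : v ≠ 0 := fun h => hc.1 (by rw [hgu, h]; exact Submodule.zero_mem _)
  let Y := (D j ⊓ LinearMap.ker (P.lin u)).map (Matrix.toLin' (g : Matrix ι ι F))
  have hYroot : ∀ y ∈ Y, root f v y 0 ∈ M ∧ f v y = 0 ∧ f y y = 0 := by
    rintro y ⟨w, ⟨hw, hwu⟩, rfl⟩
    rw [Matrix.toLin'_apply]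
    have huw : f u w = 0 := eq_zero_comm S hwu
    refine ⟨?_, by rw [← hgu, hgi, huw], by rw [hgi, P.isotropic j w hw w hw]⟩
    have := M.mul_mem (M.mul_mem hg (O.root_mem i j hij u hu w hw huw)) (M.inv_mem hg)
    rwa [root_conj S hgi (P.isotropic i u hu u hu) huw, hgu] at this
  have hYdim : k ≤ Module.finrank F Y + 1 := by
    have h1 := P.finrank_inf_ker (D j) (P.lin u) le_rfl
    have h2 : Module.finrank F Y = Module.finrank F ↥(D j ⊓ LinearMap.ker (P.lin u)) :=
      (Submodule.equivMapOfInjective _ (by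
        simpa [Function.Injective] using gl_mulVec_injective g) _).finrank_eq.symm
    have := P.decomp.finrank_eq j
    omega
  let c0 : (ι → F) →ₗ[F] (ι → F) := Decomp.comp P.decomp 0
  let c1 : (ι → F) →ₗ[F] (ι → F) := Decomp.comp P.decomp 1
  by_cases hgood : ∃ y ∈ Y, c0 y ∉ Submodule.span F {v₁} ∧ c1 y ∉ Submodule.span F {v₂}
  · obtain ⟨y, hy, h1, h2⟩ := hgood
    obtain ⟨hr, hvy, -⟩ := hYroot y hy
    have hy' : y = c0 y + c1 y := by
      conv_lhs => rw [← Decomp.sum_comp P.decomp y]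
      rw [Fin.sum_univ_two]
    rw [hy'] at hr hvy
    obtain ⟨p, c, hp0, hpp, hc1, hc2, hc3⟩ := tv_of_root O (show (0 : Fin 2) ≠ 1 by decide) hv₁ hv₂
      (Decomp.comp_mem P.decomp 0 y) (Decomp.comp_mem P.decomp 1 y) hv10 hv20 hvy h1 h2 hr
    exact hno p c hp0 hpp hc1 hc2 hc3
  push Not at hgood
  have hcases : Y ≤ (Submodule.span F {v₁}).comap c0 ∨ Y ≤ (Submodule.span F {v₂}).comap c1 := by
    by_contra hh
    push Not at hh
    obtain ⟨⟨y, hyY, hy0⟩, ⟨y', hyY', hy1⟩⟩ := SetLike.not_le_iff_exists.1 hh.1, SetLike.not_le_iff_exists.1 hh.2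
    rw [Submodule.mem_comap] at hy0 hy1
    have e1 := hgood y hyY hy0
    have e0 : c0 y' ∈ Submodule.span F {v₁} := by_contra fun h => hy1 (hgood y' hyY' h)
    have e2 := hgood (y + y') (Y.add_mem hyY hyY')
      (by rw [map_add]; exact fun h => hy0 ((Submodule.add_mem_iff_left _ e0).1 h))
    rw [map_add] at e2
    exact hy1 ((Submodule.add_mem_iff_right _ e1).1 e2)
  have key : ∀ a b : Fin 2, a ≠ b → ∀ w₁ ∈ D a, ∀ w₂ ∈ D b, w₁ + w₂ = v → w₁ ≠ 0 → w₂ ≠ 0 →
      Y ≤ (Submodule.span F {w₁}).comap (Decomp.comp P.decomp a) → False := by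
    intro a b hab w₁ hw₁ w₂ hw₂ hw hw10 hw20 hle
    have h1 := Submodule.finrank_sup_add_finrank_inf_eq Y (D b)
    have hsup : Y ⊔ D b ≤ Submodule.span F {w₁} ⊔ D b := by
      refine sup_le (fun y hy => ?_) le_sup_right
      have hy' : y = Decomp.comp P.decomp a y + Decomp.comp P.decomp b y := by
        conv_lhs => rw [← Decomp.sum_comp P.decomp y]
        rw [Fin.sum_univ_two]
        rcases (show (a = 0 ∧ b = 1) ∨ (a = 1 ∧ b = 0) by omega) with ⟨rfl, rfl⟩ | ⟨rfl, rfl⟩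
        · rfl
        · rw [add_comm]
      rw [hy']
      exact Submodule.add_mem _ (Submodule.mem_sup_left (hle hy)) (Submodule.mem_sup_right (Decomp.comp_mem _ b y))
    have h2 := Submodule.finrank_mono hsup
    have h3 := Submodule.finrank_add_le_finrank_add_finrank (Submodule.span F {w₁}) (D b)
    have h4 := finrank_span_singleton (K := F) hw10
    have := P.three
    obtain ⟨y, ⟨hyY, hyb⟩, hy0⟩ := Submodule.exists_mem_ne_zero_of_ne_bot (p := Y ⊓ D b) fun h => by
      rw [h, finrank_bot] at h1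
      have := P.decomp.finrank_eq b
      omega
    obtain ⟨hr, hvy, -⟩ := hYroot y hyY
    obtain ⟨p, c, hp0, hpp, hc1, hc2, hc3⟩ := tv_of_root_summand O hab hw₁ hw₂ hyb hy0 hw20 (hw.symm ▸ hr)
      (hw.symm ▸ hvy) (hw.symm ▸ hvv)
    exact hno p c hp0 hpp hc1 hc2 hc3
  rcases hcases with hle | hle
  · exact key 0 1 (by decide) v₁ hv₁ v₂ hv₂ rfl hv10 hv20 hle
  · exact key 1 0 (by decide) v₂ hv₂ v₁ hv₁ (add_comm _ _) hv20 hv10 hle

end CfsgLib.SkewPairLow
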