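import Cfsg.Agent.Lib.SkewPairLow.Base

/-!
The stabilizer of a pair of complementary totally isotropic subspaces of dimension at least three is maximal in the
symplectic group in odd characteristic (adapted from `GeomClasses.SkewPair`, which needs dimension five).
-/

set_option autoImplicit false
set_option linter.unusedSectionVars false
set_option linter.unusedSimpArgs false

namespace CfsgLib.SkewPairLow

open Matrix CfsgLib.GeomClasses
open CfsgLib.GeomClasses.SkewPair (IsSkewHerm root add_left add_right smul_left smul_right zero_left zero_right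
  neg_left neg_right eq_zero_comm ne_zero_comm conj_form formTv_mulVec root_mulVec root_mul root_zero root_inv
  root_swap root_isometry root_conj commutator_mem formTv_smul exists_perm)

variable {ι : Type} [Fintype ι] [DecidableEq ι] {F : Type*} [Field F] {σ : F ≃+* F} {f : (ι → F) → (ι → F) → F}

variable {D : Fin 2 → Submodule F (ι → F)} {k : ℕ}

theorem mem_stabilizer (P : Pair σ f D k) (g : GL ι F) (h : ∀ i, ∃ a, ∀ x ∈ D i, (g : Matrix ι ι F) *ᵥ x ∈ D a) :
    g ∈ Cfsg.Geo.decompositionStabilizer D := by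
  choose a ha using h
  have hfr : ∀ i, (D i).map (Matrix.toLin' (g : Matrix ι ι F)) = D (a i) := by
    intro i
    refine Submodule.eq_of_le_of_finrank_eq (fun y hy => ?_) ?_
    · obtain ⟨x, hx, rfl⟩ := hy
      rw [Matrix.toLin'_apply]
      exact ha i x hx
    · rw [(Submodule.equivMapOfInjective _ (by
        simpa [Function.Injective] using gl_mulVec_injective g) (D i)).finrank_eq.symm,
        P.decomp.finrank_eq, P.decomp.finrank_eq]
  have hne : a 0 ≠ a 1 := by
    intro he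
    obtain ⟨x, hx, hx0⟩ := Decomp.exists_ne_zero P.decomp 1
    have h1 : (g : Matrix ι ι F) *ᵥ x ∈ (D 0).map (Matrix.toLin' (g : Matrix ι ι F)) := by
      rw [hfr 0, he]; exact ha 1 x hx
    obtain ⟨y, hy, hyx⟩ := h1
    rw [Matrix.toLin'_apply] at hyx
    exact hx0 (P.disjoint (show (0 : Fin 2) ≠ 1 by decide) (gl_mulVec_injective g hyx ▸ hy) hx)
  obtain ⟨e, he⟩ := exists_perm a hne
  exact mem_decompositionStabilizer.2 ⟨e, fun i => by rw [he, hfr]⟩

theorem root_mem_stabilizer (P : Pair σ f D k) {i j : Fin 2} (hij : i ≠ j) {u w : ι → F} (hu : u ∈ D i)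
    (hw : w ∈ D j) (huw : f u w = 0) : root f u w 0 ∈ Cfsg.Geo.decompositionStabilizer D := by
  have S := P.toIsSkewHerm
  refine mem_stabilizer P _ fun a => ⟨a, fun x hx => ?_⟩
  rw [root_mulVec S (P.isotropic i u hu u hu) huw, zero_mul, zero_add]
  rcases (show a = i ∨ a = j by omega) with rfl | rfl
  · rw [P.isotropic a x hx u hu, zero_smul, add_zero]
    exact (D a).add_mem hx ((D a).smul_mem _ hu)
  · rw [P.isotropic a x hx w hw, zero_smul, add_zero]
    exact (D a).add_mem hx ((D a).smul_mem _ hw)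

/-- An element exchanging the two summands. -/
theorem exists_swap (P : Pair σ f D k) {K : Subgroup (GL ι F)} {c : F} (hc : σ c = c) (hc0 : c ≠ 0)
    (hT : ∀ v, f v v = 0 → ∀ c, σ c = c → formTv f v c ∈ K) :
    ∃ g ∈ K, (∀ x ∈ D 0, (g : Matrix ι ι F) *ᵥ x ∈ D 1) ∧ ∀ x ∈ D 1, (g : Matrix ι ι F) *ᵥ x ∈ D 0 := by
  classical
  have S := P.toIsSkewHerm
  have h01 : (0 : Fin 2) ≠ 1 := by decide
  have hk := P.decomp.finrank_eq 0
  let b := (Module.finBasisOfFinrankEq F (D 0) hk)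
  let Φ : D 1 →ₗ[F] (Fin k → F) :=
    { toFun := fun y i => f y (b i)
      map_add' := fun x y => funext fun i => add_left S _ _ _
      map_smul' := fun c x => funext fun i => smul_left S _ _ _ }
  have hinj : Function.Injective Φ := by
    refine (injective_iff_map_eq_zero Φ).2 fun y hy => Subtype.ext ?_
    by_contra hne
    obtain ⟨x, hx⟩ := P.nondegenerate _ hne
    apply hx
    obtain ⟨a, ha, a', ha', rfl⟩ := P.components h01 x
    rw [add_right S, P.isotropic 1 _ y.2 a' ha', add_zero,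
      show a = ((∑ i, b.repr ⟨a, ha⟩ i • b i : D 0) : ι → F) by rw [b.sum_repr], Submodule.coe_sum,
      S.sesq.sum_right]
    refine Finset.sum_eq_zero fun i _ => ?_
    rw [Submodule.coe_smul, smul_right S]
    exact mul_eq_zero_of_right _ (congrFun hy i)
  have hsurj : Function.Surjective Φ :=
    (LinearMap.injective_iff_surjective_of_finrank_eq_finrank (by rw [P.decomp.finrank_eq 1,
      Module.finrank_fintype_fun_eq_card, Fintype.card_fin])).1 hinj
  choose b' hb' using fun j => hsurj (Pi.single j 1)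
  have hpair : ∀ i j, f (b' j : ι → F) (b i : ι → F) = if i = j then 1 else 0 := fun i j => by
    have := congrFun (hb' j) i
    simpa [Φ, Pi.single_apply] using this
  have hpair' : ∀ i j, f (b i : ι → F) (b' j : ι → F) = if i = j then -1 else 0 := fun i j => by
    rw [S.skew, hpair]; split <;> simp
  have hii : ∀ (a : Fin 2) (x : D a), f (x : ι → F) x = 0 := fun a x => P.isotropic a _ x.2 _ x.2
  let t : Fin k → GL ι F := fun i =>
    formTv f (b i : ι → F) c * formTv f (b' i : ι → F) c⁻¹ * formTv f (b i : ι → F) c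
  have htK : ∀ i, t i ∈ K := fun i => K.mul_mem (K.mul_mem (hT _ (hii 0 (b i)) c hc)
    (hT _ (hii 1 (b' i)) _ (by rw [map_inv₀, hc]))) (hT _ (hii 0 (b i)) c hc)
  have htapp : ∀ i x, (t i : Matrix ι ι F) *ᵥ x = (formTv f (b i : ι → F) c : Matrix ι ι F) *ᵥ
      ((formTv f (b' i : ι → F) c⁻¹ : Matrix ι ι F) *ᵥ ((formTv f (b i : ι → F) c : Matrix ι ι F) *ᵥ x)) := by
    intro i x
    rw [← gl_mul_mulVec, ← gl_mul_mulVec]
  have ht : ∀ i x, f x (b i) = 0 → f x (b' i) = 0 → (t i : Matrix ι ι F) *ᵥ x = x := by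
    intro i x h1 h2
    simp [htapp, formTv_mulVec S (hii 0 (b i)), formTv_mulVec S (hii 1 (b' i)), h1, h2]
  have htb : ∀ i, (t i : Matrix ι ι F) *ᵥ (b i : ι → F) = (-c⁻¹) • (b' i : ι → F) ∧
      (t i : Matrix ι ι F) *ᵥ (b' i : ι → F) = c • (b i : ι → F) := by
    intro i
    have e1 := hpair i i
    have e2 := hpair' i i
    rw [if_pos rfl] at e1 e2
    constructor <;>
    · simp only [htapp, formTv_mulVec S (hii 0 (b i)), formTv_mulVec S (hii 1 (b' i)),
        hii 0 (b i), hii 1 (b' i), e1, e2, add_left S, smul_left S]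
      match_scalars <;> field_simp <;> ring
  suffices H : ∀ s : Finset (Fin k), ∃ g ∈ K, ∀ i,
      (i ∈ s → (g : Matrix ι ι F) *ᵥ (b i : ι → F) ∈ D 1 ∧ (g : Matrix ι ι F) *ᵥ (b' i : ι → F) ∈ D 0) ∧
      (i ∉ s → (g : Matrix ι ι F) *ᵥ (b i : ι → F) = b i ∧ (g : Matrix ι ι F) *ᵥ (b' i : ι → F) = b' i) by
    obtain ⟨g, hg, hb⟩ := H Finset.univ
    let bb : Module.Basis (Fin k) F (D 1) := Module.Basis.ofEquivFun (LinearEquiv.ofBijective Φ ⟨hinj, hsurj⟩)
    have hbb : ∀ i, bb i = b' i := fun i => hinj (by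
      rw [hb']
      simp only [bb, Module.Basis.coe_ofEquivFun]
      exact (LinearEquiv.ofBijective Φ ⟨hinj, hsurj⟩).apply_symm_apply _)
    refine ⟨g, hg, fun x hx => ?_, fun x hx => ?_⟩
    · rw [show x = ((∑ i, b.repr ⟨x, hx⟩ i • b i : D 0) : ι → F) by rw [b.sum_repr], Submodule.coe_sum,
        mulVec_sum]
      exact Submodule.sum_mem _ fun i _ => by
        rw [Submodule.coe_smul, mulVec_smul]; exact (D 1).smul_mem _ ((hb i).1 (Finset.mem_univ i)).1
    · rw [show x = ((∑ i, bb.repr ⟨x, hx⟩ i • bb i : D 1) : ι → F) by rw [bb.sum_repr], Submodule.coe_sum,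
        mulVec_sum]
      exact Submodule.sum_mem _ fun i _ => by
        rw [Submodule.coe_smul, mulVec_smul, hbb]; exact (D 0).smul_mem _ ((hb i).1 (Finset.mem_univ i)).2
  intro s
  induction s using Finset.induction_on with
  | empty => exact ⟨1, K.one_mem, fun i => ⟨fun h => absurd h (Finset.notMem_empty i), fun _ => by simp⟩⟩
  | insert j s hj ih =>
    obtain ⟨g, hg, hgb⟩ := ih
    refine ⟨g * t j, K.mul_mem hg (htK j), fun i => ?_⟩
    by_cases hij : i = j
    · subst hij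
      refine ⟨fun _ => ?_, fun h => absurd (Finset.mem_insert_self i s) h⟩
      obtain ⟨e1, e2⟩ := (hgb i).2 hj
      rw [gl_mul_mulVec g (t i), gl_mul_mulVec g (t i), (htb i).1, (htb i).2, mulVec_smul, mulVec_smul, e1, e2]
      exact ⟨(D 1).smul_mem _ (b' i).2, (D 0).smul_mem _ (b i).2⟩
    have e1 : (t j : Matrix ι ι F) *ᵥ (b i : ι → F) = b i :=
      ht j _ (P.isotropic 0 _ (b i).2 _ (b j).2) (by rw [hpair', if_neg hij])
    have e2 : (t j : Matrix ι ι F) *ᵥ (b' i : ι → F) = b' i :=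
      ht j _ (by rw [hpair, if_neg (Ne.symm hij)]) (P.isotropic 1 _ (b' i).2 _ (b' j).2)
    refine ⟨fun h => ?_, fun h => ?_⟩
    · rw [gl_mul_mulVec g (t j), gl_mul_mulVec g (t j), e1, e2]
      exact (hgb i).1 (Finset.mem_of_mem_insert_of_ne h hij)
    · rw [gl_mul_mulVec g (t j), gl_mul_mulVec g (t j), e1, e2]
      exact (hgb i).2 fun h' => h (Finset.mem_insert_of_mem h')

variable {M : Subgroup (GL ι F)} (O : Over σ f D k M)
include O

theorem tv_conj {g : GL ι F} (hg : g ∈ M) {v : ι → F} (hv : f v v = 0) (c : F) :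
    g * formTv f v c * g⁻¹ = formTv f ((g : Matrix ι ι F) *ᵥ v) c := by
  have S := O.toIsSkewHerm
  rw [← root_zero S hv, root_conj S (O.isometry g hg) hv (zero_right S v), mulVec_zero,
    root_zero S (by rw [O.isometry g hg, hv])]

theorem tv_swap {v : ι → F} (hv : v ∈ D 0) {c : F} (h : ∀ u ∈ D 0, formTv f u c ∈ M) :
    ∀ u ∈ D 1, formTv f u c ∈ M := by
  have S := O.toIsSkewHerm
  have P := O.toPair
  obtain ⟨g, hg, h0⟩ := O.swap_mem
  have heq : (D 0).map (Matrix.toLin' (g : Matrix ι ι F)) = D 1 :=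
    Submodule.eq_of_le_of_finrank_eq (fun y hy => by
      obtain ⟨x, hx, rfl⟩ := hy
      rw [Matrix.toLin'_apply]
      exact h0 x hx) (by
      rw [(Submodule.equivMapOfInjective _ (by
        simpa [Function.Injective] using gl_mulVec_injective g) (D 0)).finrank_eq.symm,
        P.decomp.finrank_eq, P.decomp.finrank_eq])
  intro u hu
  rw [← heq] at hu
  obtain ⟨x, hx, rfl⟩ := hu
  rw [Matrix.toLin'_apply, ← tv_conj O hg (P.isotropic 0 x hx x hx)]
  exact M.mul_mem (M.mul_mem hg (h x hx)) (M.inv_mem hg)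

/-- A transvection with centre in a summand. -/
theorem exists_tv_summand {v : ι → F} (hv0 : v ≠ 0) (hvv : f v v = 0) {c : F} (hc : σ c = c) (hc0 : c ≠ 0)
    (h : formTv f v c ∈ M) : ∃ i, ∃ s ∈ D i, s ≠ 0 ∧ ∃ c', σ c' = c' ∧ c' ≠ 0 ∧ formTv f s c' ∈ M := by
  classical
  have S := O.toIsSkewHerm
  have P := O.toPair
  have h01 : (0 : Fin 2) ≠ 1 := by decide
  have h10 : (1 : Fin 2) ≠ 0 := by decide
  obtain ⟨v₁, hv₁, v₂, hv₂, rfl⟩ := P.components h01 v
  by_cases hv20 : v₂ = 0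
  · rw [hv20, add_zero] at h hv0
    exact ⟨0, v₁, hv₁, hv0, c, hc, hc0, h⟩
  by_cases hv10 : v₁ = 0
  · rw [hv10, zero_add] at h hv0
    exact ⟨1, v₂, hv₂, hv0, c, hc, hc0, h⟩
  set v := v₁ + v₂ with hv
  obtain ⟨s, hs, hsv, hsn'⟩ := P.exists_avoid_one (i := 0) v₂ v₁
  have hs0 : s ≠ 0 := fun h0 => hsn' (h0 ▸ Submodule.zero_mem _)
  have hv1s : v₁ ∉ Submodule.span F {s} := fun hin => by
    obtain ⟨a, ha⟩ := Submodule.mem_span_singleton.1 hin
    have ha0 : a ≠ 0 := fun h0 => hv10 (by rw [← ha, h0, zero_smul])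
    exact hsn' (Submodule.mem_span_singleton.2 ⟨a⁻¹, by rw [← ha, inv_smul_smul₀ ha0]⟩)
  obtain ⟨z, hz, hzs, hzv⟩ := P.sep_one h10 hs hv₁ hv1s
  have hsz : f s z = 0 := eq_zero_comm S hzs
  have hss := P.isotropic 0 s hs s hs
  have hvs : f v s = 0 := by rw [hv, add_left S, P.isotropic 0 v₁ hv₁ s hs, eq_zero_comm S hsv, add_zero]
  have hsv' : f s v = 0 := eq_zero_comm S hvs
  set e := f v z with he
  have he0 : e ≠ 0 := by
    rw [he, hv, add_left S, P.isotropic 1 v₂ hv₂ z hz, add_zero]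
    exact ne_zero_comm S hzv
  have hh := O.root_mem 0 1 h01 s hs z hz hsz
  have hhv : (root f s z 0 : Matrix ι ι F) *ᵥ v = v + e • s := by
    rw [root_mulVec S hss hsz, hvs, he]; simp
  have hve : f (v + e • s) (v + e • s) = 0 := by rw [← hhv, O.isometry _ hh, hvv]
  have h1 := M.mul_mem (M.mul_mem hh h) (M.inv_mem hh)
  rw [tv_conj O hh hvv, hhv] at h1
  have hlam : f s ((c * σ e) • v) = 0 := by rw [smul_right S, hsv', mul_zero]
  have hsplit : formTv f (v + e • s) c = formTv f v c * root f s ((c * σ e) • v) (c * e * σ e) := by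
    refine gl_ext fun x => ?_
    rw [formTv_mulVec S hve, gl_mul_mulVec, formTv_mulVec S hvv, root_mulVec S hss hlam]
    simp only [add_left S, add_right S, smul_left S, smul_right S, map_mul, hsv', hvv, O.involutive, hc]
    match_scalars <;> ring
  rw [hsplit] at h1
  have hR := M.mul_mem (M.inv_mem h) h1
  rw [inv_mul_cancel_left] at hR
  set l := c * σ e with hl
  have hl0 : l ≠ 0 := mul_ne_zero hc0 ((RingEquiv.map_ne_zero_iff σ).2 he0)
  have hsv2 : f s ((-l) • v₂) = 0 := by rw [smul_right S, hsv, mul_zero]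
  have h2 := M.mul_mem hR (O.root_mem 0 1 h01 s hs _ ((D 1).smul_mem (-l) hv₂) hsv2)
  rw [root_mul S hss hlam hsv2, show l • v + (-l) • v₂ = l • v₁ by rw [hv]; module] at h2
  have han : l • v₁ ∉ Submodule.span F {s} := fun hin => hv1s ((Submodule.smul_mem_iff _ hl0).1 hin)
  obtain ⟨z', hz', hz's, hz'a⟩ := P.sep_one h10 hs ((D 0).smul_mem l hv₁) han
  obtain ⟨τ, hτ⟩ := O.trace
  set z'' := (τ / f z' (l • v₁)) • z' with hz''
  have hz''s : f s z'' = 0 := by rw [hz'', smul_right S, eq_zero_comm S hz's, mul_zero]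
  have h3 := O.root_mem 0 1 h01 s hs z'' ((D 1).smul_mem _ hz') hz''s
  have hsa : f s (l • v₁) = 0 := P.isotropic 0 s hs _ ((D 0).smul_mem l hv₁)
  have h4 := commutator_mem S hss hsa hz''s h2 h3
  have ht : f z'' (l • v₁) = τ := by rw [hz'', smul_left S, div_mul_cancel₀ _ hz'a]
  rw [S.skew z'' (l • v₁), ht, sub_neg_eq_add] at h4
  exact ⟨0, s, hs, hs0, _, by rw [map_add, O.involutive, add_comm], hτ, h4⟩

/-- All transvections with centres in the summands. -/
theorem tv_summands {g : GL ι F} (hg : g ∈ M) (hnot : g ∉ Cfsg.Geo.decompositionStabilizer D) :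
    ∀ i, ∀ u ∈ D i, ∀ c, σ c = c → formTv f u c ∈ M := by
  classical
  have S := O.toIsSkewHerm
  have P := O.toPair
  obtain ⟨v, c₁, hv0, hvv, hc₁, hc₁0, hTv⟩ : ∃ v c, v ≠ 0 ∧ f v v = 0 ∧ σ c = c ∧ c ≠ 0 ∧ formTv f v c ∈ M := by
    by_contra hno
    push Not at hno
    refine hnot (mem_stabilizer P g fun i => ?_)
    by_contra hc
    push Not at hc
    obtain ⟨x, hx, hx0⟩ := hc 0
    obtain ⟨y, hy, hy1⟩ := hc 1
    have h1 := (move_summand O hg hno i hx).resolve_left hx0
    have h0 := (move_summand O hg hno i hy).resolve_right hy1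
    rcases move_summand O hg hno i ((D i).add_mem hx hy) with h | h <;> rw [mulVec_add] at h
    · exact hx0 (((D 0).add_mem_iff_left h0).1 h)
    · exact hy1 (((D 1).add_mem_iff_right h1).1 h)
  obtain ⟨i, s, hs, hs0, c₀, hc₀, hc₀0, hTs⟩ := exists_tv_summand O hv0 hvv hc₁ hc₁0 hTv
  obtain ⟨j, hij⟩ : ∃ j, i ≠ j := exists_ne i |>.imp fun _ h => h.symm
  have move : ∀ a a' : ι → F, a ∈ D i → a' ∈ D i → a ∉ Submodule.span F {a' - a} → formTv f a c₀ ∈ M →
      formTv f a' c₀ ∈ M := by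
    intro a a' ha ha' hn hT
    obtain ⟨b, hb, hb1, hb2⟩ := P.sep_one hij.symm ((D i).sub_mem ha' ha) ha hn
    set b' := (σ (f a b))⁻¹ • b with hb'
    have hab : f a b ≠ 0 := ne_zero_comm S hb2
    have hab' : f a b' = 1 := by
      rw [hb', smul_right S, map_inv₀, O.involutive, inv_mul_cancel₀ hab]
    have hdb : f (a' - a) b' = 0 := by rw [hb', smul_right S, eq_zero_comm S hb1, mul_zero]
    have hh := O.root_mem i j hij (a' - a) ((D i).sub_mem ha' ha) b' ((D j).smul_mem _ hb) hdb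
    have e : (root f (a' - a) b' 0 : Matrix ι ι F) *ᵥ a = a' := by
      rw [root_mulVec S (P.isotropic i _ ((D i).sub_mem ha' ha) _ ((D i).sub_mem ha' ha)) hdb,
        P.isotropic i a ha _ ((D i).sub_mem ha' ha), hab', zero_smul, add_zero, mul_zero, zero_add, one_smul,
        add_sub_cancel]
    rw [← e, ← tv_conj O hh (P.isotropic i a ha a ha)]
    exact M.mul_mem (M.mul_mem hh hT) (M.inv_mem hh)
  have indep : ∀ a a' : ι → F, a ∈ D i → a' ∈ D i → a ≠ 0 → a' ∉ Submodule.span F {a} →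
      formTv f a c₀ ∈ M → formTv f a' c₀ ∈ M := by
    intro a a' ha ha' ha0 hn hT
    refine move a a' ha ha' (fun hin => hn ?_) hT
    obtain ⟨r, hr⟩ := Submodule.mem_span_singleton.1 hin
    have hr0 : r ≠ 0 := fun h0 => ha0 (by rw [← hr, h0, zero_smul])
    refine Submodule.mem_span_singleton.2 ⟨(1 + r) / r, ?_⟩
    rw [div_eq_inv_mul, mul_smul, add_smul, one_smul]
    conv_lhs => arg 2; arg 1; rw [← hr]
    rw [smul_sub, sub_add_cancel, inv_smul_smul₀ hr0]
  have hi : ∀ a ∈ D i, formTv f a c₀ ∈ M := by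
    intro a ha
    by_cases ha0 : a = 0
    · rw [ha0, show formTv f (0 : ι → F) c₀ = 1 from gl_ext fun x => by
        rw [formTv_mulVec S (zero_left S 0)]; simp]
      exact M.one_mem
    obtain ⟨t, ht, htn⟩ := P.exists_outside (i := i) s a
    have hts : t ∉ Submodule.span F {s} := fun h => htn (Submodule.span_mono (by simp) h)
    have hta : t ∉ Submodule.span F {a} := fun h => htn (Submodule.span_mono (by simp) h)
    have ht0 : t ≠ 0 := fun h => hts (h ▸ Submodule.zero_mem _)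
    refine indep t a ht ha ht0 (fun h => hta ?_) (indep s t hs ht hs0 hts hTs)
    obtain ⟨r, hr⟩ := Submodule.mem_span_singleton.1 h
    have hr0 : r ≠ 0 := fun h0 => ha0 (by rw [← hr, h0, zero_smul])
    exact Submodule.mem_span_singleton.2 ⟨r⁻¹, by rw [← hr, inv_smul_smul₀ hr0]⟩
  have hall : ∀ a ∈ D i, ∀ c, σ c = c → formTv f a c ∈ M := by
    intro a ha c hc
    obtain ⟨p, q, hpq⟩ := O.norms (c / c₀) (by rw [map_div₀, hc, hc₀])
    have haa := P.isotropic i a ha a ha
    have h1 := hi (p • a) ((D i).smul_mem _ ha)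
    have h2 := hi (q • a) ((D i).smul_mem _ ha)
    rw [formTv_smul S haa] at h1 h2
    have h3 := M.mul_mem h1 (M.inv_mem h2)
    convert h3 using 1
    rw [eq_mul_inv_iff_mul_eq]
    refine gl_ext fun x => ?_
    rw [gl_mul_mulVec, formTv_mulVec S haa, formTv_mulVec S haa, formTv_mulVec S haa, add_left S, smul_left S, haa]
    have e : c = (p * σ p - q * σ q) * c₀ := by rw [← hpq, div_mul_cancel₀ _ hc₀0]
    rw [e]
    match_scalars <;> ring
  obtain ⟨g₀, hg₀, h0⟩ := O.swap_mem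
  have heq : (D 0).map (Matrix.toLin' (g₀ : Matrix ι ι F)) = D 1 :=
    Submodule.eq_of_le_of_finrank_eq (fun y hy => by
      obtain ⟨x, hx, rfl⟩ := hy
      rw [Matrix.toLin'_apply]
      exact h0 x hx) (by
      rw [(Submodule.equivMapOfInjective _ (by
        simpa [Function.Injective] using gl_mulVec_injective g₀) (D 0)).finrank_eq.symm,
        P.decomp.finrank_eq, P.decomp.finrank_eq])
  have hzero : ∀ a ∈ D 0, ∀ c, σ c = c → formTv f a c ∈ M := by
    rcases (show i = 0 ∨ i = 1 by omega) with rfl | rfl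
    · exact hall
    · intro a ha c hc
      have h1 := hall _ (h0 a ha) c hc
      rw [← tv_conj O hg₀ (P.isotropic 0 a ha a ha)] at h1
      have h2 := M.mul_mem (M.mul_mem (M.inv_mem hg₀) h1) hg₀
      simpa [mul_assoc] using h2
  intro j u hu c hc
  rcases (show j = 0 ∨ j = 1 by omega) with rfl | rfl
  · exact hzero u hu c hc
  · exact tv_swap O (D 0).zero_mem (fun a ha => hzero a ha c hc) u hu

/-- All transvections. -/
theorem tv_all {g : GL ι F} (hg : g ∈ M) (hnot : g ∉ Cfsg.Geo.decompositionStabilizer D) {v : ι → F}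
    (hv : f v v = 0) {c : F} (hc : σ c = c) : formTv f v c ∈ M := by
  classical
  have S := O.toIsSkewHerm
  have P := O.toPair
  have h01 : (0 : Fin 2) ≠ 1 := by decide
  have hD := tv_summands O hg hnot
  have hfix : ∀ {a b : ι → F}, f a a = 0 → f b b = 0 → f (a + b) (a + b) = 0 → σ (f a b) = f a b := by
    intro a b ha hb h
    rw [add_left S, add_right S, add_right S, ha, hb, S.skew a b] at h
    linear_combination -h
  have hbase : ∀ v₁ v₂, v₁ ∈ D 0 → v₂ ∈ D 1 → f (v₁ + v₂) (v₁ + v₂) = 0 → f v₁ v₂ ≠ 0 →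
      ∀ c, σ c = c → formTv f (v₁ + v₂) c ∈ M := by
    intro v₁ v₂ hv₁ hv₂ hvv he c hc
    have h1 := P.isotropic 0 v₁ hv₁ v₁ hv₁
    have h2 := P.isotropic 1 v₂ hv₂ v₂ hv₂
    have ht := hD 1 v₂ hv₂ (f v₁ v₂)⁻¹ (by rw [map_inv₀, hfix h1 h2 hvv])
    have e : (formTv f v₂ (f v₁ v₂)⁻¹ : Matrix ι ι F) *ᵥ v₁ = v₁ + v₂ := by
      rw [formTv_mulVec S h2, inv_mul_cancel₀ he, one_smul]
    rw [← e, ← tv_conj O ht h1]
    exact M.mul_mem (M.mul_mem ht (hD 0 v₁ hv₁ c hc)) (M.inv_mem ht)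
  obtain ⟨v₁, hv₁, v₂, hv₂, rfl⟩ := P.components h01 v
  by_cases hv10 : v₁ = 0
  · rw [hv10, zero_add]; exact hD 1 v₂ hv₂ c hc
  by_cases he : f v₁ v₂ = 0
  · obtain ⟨y, hy⟩ := P.nondegenerate v₁ hv10
    obtain ⟨a, ha, b, hb, rfl⟩ := P.components h01 y
    rw [add_right S, P.isotropic 0 v₁ hv₁ a ha, zero_add] at hy
    obtain ⟨c₀, hc₀, hc₀0⟩ : ∃ c₀ : F, σ c₀ = c₀ ∧ c₀ ≠ 0 := ⟨1, map_one σ, one_ne_zero⟩
    have hbb := P.isotropic 1 b hb b hb
    have ht := hD 1 b hb c₀ hc₀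
    set e₀ := c₀ * f (v₁ + v₂) b with he₀
    have e : (formTv f b c₀ : Matrix ι ι F) *ᵥ (v₁ + v₂) = v₁ + (v₂ + e₀ • b) := by
      rw [formTv_mulVec S hbb, ← he₀, add_assoc]
    have hvv' : f (v₁ + (v₂ + e₀ • b)) (v₁ + (v₂ + e₀ • b)) = 0 := by rw [← e, O.isometry _ ht, hv]
    have hne : f v₁ (v₂ + e₀ • b) ≠ 0 := by
      rw [add_right S, smul_right S, he, zero_add, he₀, add_left S, P.isotropic 1 v₂ hv₂ b hb, add_zero]
      exact mul_ne_zero ((RingEquiv.map_ne_zero_iff σ).2 (mul_ne_zero hc₀0 hy)) hy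
    have h1 := hbase v₁ _ hv₁ ((D 1).add_mem hv₂ ((D 1).smul_mem _ hb)) hvv' hne c hc
    rw [← e, ← tv_conj O ht hv] at h1
    have h2 := M.mul_mem (M.mul_mem (M.inv_mem ht) h1) ht
    simpa [mul_assoc] using h2
  · exact hbase v₁ v₂ hv₁ hv₂ hv he c hc

omit O

/-- Maximality of the pair stabilizer. -/
theorem maximal_pair (P : Pair σ f D k) {K : Subgroup (GL ι F)}
    (hKi : ∀ g ∈ K, ∀ x y, f ((g : Matrix ι ι F) *ᵥ x) ((g : Matrix ι ι F) *ᵥ y) = f x y)
    (hroot : ∀ u w γ, f u u = 0 → f u w = 0 → σ γ = γ - f w w → root f u w γ ∈ K)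
    (hgen : ∀ M : Subgroup (GL ι F), (∀ v, f v v = 0 → ∀ c, σ c = c → formTv f v c ∈ M) → K ≤ M) :
    Cfsg.Geo.IsMaximalIn K (Cfsg.Geo.decompositionStabilizer D ⊓ K) := by
  classical
  have S := P.toIsSkewHerm
  have h01 : (0 : Fin 2) ≠ 1 := by decide
  have hT : ∀ v, f v v = 0 → ∀ c, σ c = c → formTv f v c ∈ K := fun v hv c hc => by
    rw [← root_zero S hv]
    exact hroot v 0 c hv (zero_right S v) (by rw [zero_left S, sub_zero, hc])
  have hR : ∀ i j, i ≠ j → ∀ u ∈ D i, ∀ w ∈ D j, f u w = 0 →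
      root f u w 0 ∈ Cfsg.Geo.decompositionStabilizer D ⊓ K := fun i j hij u hu w hw huw =>
    ⟨root_mem_stabilizer P hij hu hw huw, hroot u w 0 (P.isotropic i u hu u hu) huw
      (by rw [P.isotropic j w hw w hw, map_zero, sub_zero])⟩
  obtain ⟨gs, hgs, hs0, hs1⟩ := exists_swap P (map_one σ) one_ne_zero hT
  have hswap : gs ∈ Cfsg.Geo.decompositionStabilizer D ⊓ K := ⟨mem_stabilizer P gs fun i => by
    rcases (show i = 0 ∨ i = 1 by omega) with rfl | rfl
    · exact ⟨1, hs0⟩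
    · exact ⟨0, hs1⟩, hgs⟩
  refine ⟨lt_of_le_of_ne inf_le_right fun he => ?_, fun M hle hMK => ?_⟩
  · obtain ⟨u, hu, hu0⟩ := Decomp.exists_ne_zero P.decomp 0
    obtain ⟨y, hy⟩ := P.nondegenerate u hu0
    obtain ⟨a, ha, b, hb, rfl⟩ := P.components h01 y
    rw [add_right S, P.isotropic 0 u hu a ha, zero_add] at hy
    have hbb := P.isotropic 1 b hb b hb
    have hmem := hT b hbb 1 (map_one σ)
    rw [← he] at hmem
    obtain ⟨e, he'⟩ := mem_decompositionStabilizer.1 hmem.1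
    have hin : (formTv f b 1 : Matrix ι ι F) *ᵥ u ∈ D (e 0) := by
      rw [← he' 0]
      exact ⟨u, hu, by rw [Matrix.toLin'_apply]⟩
    rw [formTv_mulVec S hbb, one_mul] at hin
    have hmul : f u b • b ∈ D 1 := (D 1).smul_mem _ hb
    rcases (show e 0 = 0 ∨ e 0 = 1 by omega) with h | h <;> rw [h] at hin
    · have := P.disjoint h01 ((((D 0).add_mem_iff_right hu)).1 hin) hmul
      rcases smul_eq_zero.1 this with h' | h'
      · exact hy h'
      · exact hy (by rw [h', zero_right S])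
    · exact hu0 (P.disjoint h01 hu (((D 1).add_mem_iff_left hmul).1 hin))
  by_cases hall : M ≤ Cfsg.Geo.decompositionStabilizer D
  · exact Or.inl (le_antisymm (le_inf hall hMK) hle)
  right
  refine le_antisymm hMK ?_
  have O : Over σ f D k M :=
    { P with
      isometry := fun g hg => hKi g (hMK hg)
      root_mem := fun i j hij u hu w hw huw => hle (hR i j hij u hu w hw huw)
      swap_mem := ⟨gs, hle hswap, hs0⟩ }
  obtain ⟨g, hgM, hg⟩ := SetLike.not_le_iff_exists.1 hall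
  exact hgen M fun v hv c hc => tv_all O hgM hg hv hc

end CfsgLib.SkewPairLow
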